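import Cfsg.Agent.Wr.MTool

/-! The centraliser of a `2A`-involution of `M24`: subgroups, tables and one scan. -/

set_option autoImplicit false

namespace Cfsg.Agent.Wr.MC

open Cfsg Subgroup Cfsg.Agent.Comp Cfsg.Agent.Spor Cfsg.Agent.Spor.M24C Cfsg.Agent.Lyons
open scoped commutatorElement

/-- codes -/
def cp : ℕ := 70973640321458241258265439449335525
/-- codes -/
def cq : ℕ := 735587559802120952862548468252542019
/-- codes -/
def ca : ℕ := 694049065791826270958056713107938698
/-- codes -/
def ce : ℕ := 216031257977568192633985706410183681
/-- codes -/
def ce1 : ℕ := 231511690860871307033270693893605377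
/-- codes -/
def ce2 : ℕ := 220213109803259289183002082616117280
/-- codes -/
def cy : ℕ := 49877480733971750490145161576138469
/-- codes -/
def cr : ℕ := 735457312421301346770266117170628640
/-- the pointwise stabiliser of the octad -/
def lE : List ℕ :=
  [694049065791826270958056713107938698, 735587559802120952862548468252542019,
    70973640321458241258265439449335525, 237127377951804563922728501298400257,
    29435344717495395150978220861995191, 610972711791184720857040928538394722,
    112511777460704415886908211521052206, 154050271128840019290474423610217937,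
    818664903157459640269050585112875340, 527895367911652742356833730436546067,
    444818657671952252904298578269676144, 652511047481950696684607180449853668,
    361742542357990660710986270218004615, 320203612607109763280537890951119336,
    195588448311994895223907688988036367, 984818244535754528103549039458486304]
/-- the other normal `2⁴` of `C(z)` -/
def l2 : List ℕ :=
  [220213109803259289183002082616117280, 231511690860871307033270693893605377,
    216031257977568192633985706410183681, 237127377951804563922728501298400257,
    963721886883755259286232606933354528, 979202557212185692351740521724578848,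
    981737719767249052369456315699891232, 234047091092639754487427698999265281,
    967903976387209248756639995823983617, 970408745037899174542809581725223937,
    222718116131712103283380056249960480, 972515684202761748824803774667261953,
    224824817851447368113516159484103712, 235856034688865447679341820903492640,
    983546663363474750168552650252060673, 984818244535754528103549039458486304]
/-- a line in `E` -/
def lV2 : List ℕ :=
  [70973640321458241258265439449335525, 29435344717495395150978220861995191,
    237127377951804563922728501298400257, 984818244535754528103549039458486304]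
/-- a plane in `E` -/
def lV3 : List ℕ :=
  [735587559802120952862548468252542019, 70973640321458241258265439449335525,
    237127377951804563922728501298400257, 29435344717495395150978220861995191,
    610972711791184720857040928538394722, 112511777460704415886908211521052206,
    154050271128840019290474423610217937, 984818244535754528103549039458486304]
/-- the `2⁶` of a sextet -/
def lW : List ℕ :=
  [979283409119483249701587601985157152, 981737719767249052369456315699891232,
    979121071158219704299181131031480352, 963721886883755259286232606933354528,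
    70973640321458241258265439449335525, 237127377951804563922728501298400257,
    29435344717495395150978220861995191, 216031257977568192633985706410183681,
    49877480733971750490145161576138469, 8339026678746245813039271321843895,
    231430402638782518167556747523329025, 65277180007661906056030232053761765,
    23738686339186281899546858814486711, 981818691054096003685363657089320992,
    234127864083396158983920601914215425, 67974601839025427393016603459667685,
    26436345848312700765106867857307831, 234047091092639754487427698999265281,
    67893313772052210390111241894410981, 26354859639231140849738892359189687,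
    979202557212185692351740521724578848, 231511690860871307033270693893605377,
    65357953152778303778093879598299877, 23819657471673239989883455574328503,
    964046246854116924572671177954233376, 216355420115297080096340992932808705,
    50202157793935246551961082207451877, 8663901725324723605890300993029303,
    984493369334060478447889424982281248, 236802701046956639723721165472106497,
    70649478338089347021480897556298469, 29110984592773736638968905211528375,
    231592582225774506953620459080860673, 65439320909816303528382406653447909,
    23901064996094678853948583321897143, 982224259478962699667529342907889696,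
    234533591037272194126618711845979137, 68380369333808531543520302228115173,
    26841875743079587977750681435080887, 984412476963149185498582240580909088,
    236721848133953220799811252328547329, 70568071819676001186373189022846693,
    29029617841441598462743211039361207, 963559745903778623359417332224538656,
    215868879397575339769310546510693377, 49715142695792660998012126014541541,
    8176847169576495481438659873441975, 963640518972357266310373335248618528,
    215949850607506746995491323292203009, 49796628981789765003106666120579813,
    8258135158727474029880921329568951, 984331188818882635087331394319762464,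
    236640362003071688657525297027528705, 70487100764104587185763156870925029,
    28948844618502962286216463385693367, 981900097418149356294900620993184800,
    234209230989088290385717040715970561, 68055494365052292205132372666059493,
    26517198606200547826208196195847351, 979608086101246717990321502419371040,
    231917457349646318154816973447936001, 65763681112360200494854822413044453,
    24225226902548029001006560607014071, 984818244535754528103549039458486304]
/-- generators of `W` -/
def wg : List ℕ :=
  [237127377951804563922728501298400257, 70973640321458241258265439449335525,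
    963721886883755259286232606933354528, 979121071158219704299181131031480352,
    981737719767249052369456315699891232, 979283409119483249701587601985157152]
/-- generators of `C(z)` -/
def hs : List ℕ :=
  [598667420683165439636847335051395170, 638092515335498680278595243906249169,
    236640030572440983443269518777404448]

/-- elements -/
noncomputable def z : M24 := mc z1
/-- elements -/
noncomputable def p : M24 := mc cp
/-- elements -/
noncomputable def q : M24 := mc cq
/-- elements -/
noncomputable def a₀ : M24 := mc ca
/-- elements -/
noncomputable def e : M24 := mc ce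
/-- elements -/
noncomputable def e₁ : M24 := mc ce1
/-- elements -/
noncomputable def e₂ : M24 := mc ce2
/-- elements -/
noncomputable def y : M24 := mc cy
/-- elements -/
noncomputable def r : M24 := mc cr

theorem cds : cd z = z1 ∧ cd p = cp ∧ cd q = cq ∧ cd a₀ = ca ∧ cd e = ce ∧ cd e₁ = ce1 ∧
    cd e₂ = ce2 ∧ cd y = cy ∧ cd r = cr := by
  refine ⟨?_, ?_, ?_, ?_, ?_, ?_, ?_, ?_, ?_⟩ <;> exact cd_mc (by decide +kernel)

theorem okE : subOK lE = true := by decide +kernel
theorem ok2 : subOK l2 = true := by decide +kernel
theorem okV2 : subOK lV2 = true := by decide +kernel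
theorem okV3 : subOK lV3 = true := by decide +kernel
theorem okW : subOK lW = true := by decide +kernel
/-- subgroups -/
def E : Subgroup M24 := lsub lE okE
/-- subgroups -/
def E2 : Subgroup M24 := lsub l2 ok2
/-- subgroups -/
def V2 : Subgroup M24 := lsub lV2 okV2
/-- subgroups -/
def V3 : Subgroup M24 := lsub lV3 okV3
/-- subgroups -/
def W : Subgroup M24 := lsub lW okW

theorem mems {g : M24} : (g ∈ E ↔ memL lE (cd g) = true) ∧ (g ∈ E2 ↔ memL l2 (cd g) = true) ∧
    (g ∈ V2 ↔ memL lV2 (cd g) = true) ∧ (g ∈ V3 ↔ memL lV3 (cd g) = true) ∧
    (g ∈ W ↔ memL lW (cd g) = true) := ⟨mem_lsub, mem_lsub, mem_lsub, mem_lsub, mem_lsub⟩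

theorem inH_cd {K : Subgroup M24} {g : M24} {c : ℕ} (h : g ∈ K) (e : cd g = c) : InH K c := ⟨g, h, e⟩

theorem V2_le {K : Subgroup M24} (h1 : z ∈ K) (h2 : p ∈ K) : V2 ≤ K :=
  lsub_le [1] [z1, cp] (by decide +kernel) (by
    simp only [List.forall_mem_cons]
    exact ⟨inH_cd h1 cds.1, inH_cd h2 cds.2.1, nofun⟩)

theorem V3_le {K : Subgroup M24} (h1 : z ∈ K) (h2 : p ∈ K) (h3 : q ∈ K) : V3 ≤ K :=
  lsub_le [1, 1027, 3076, 2053] [z1, cp, cq] (by decide +kernel) (by
    simp only [List.forall_mem_cons]
    exact ⟨inH_cd h1 cds.1, inH_cd h2 cds.2.1, inH_cd h3 cds.2.2.1, nofun⟩)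

theorem E_le {K : Subgroup M24} (h1 : z ∈ K) (h2 : p ∈ K) (h3 : q ∈ K) (h4 : a₀ ∈ K) : E ≤ K :=
  lsub_le [1, 1027, 3076, 2053, 4103, 6152, 5129, 9226, 6155, 6156, 6157]
    [z1, cp, cq, ca] (by decide +kernel) (by
    simp only [List.forall_mem_cons]
    exact ⟨inH_cd h1 cds.1, inH_cd h2 cds.2.1, inH_cd h3 cds.2.2.1, inH_cd h4 cds.2.2.2.1, nofun⟩)

theorem E2_le {K : Subgroup M24} (h1 : z ∈ K) (h2 : e ∈ K) (h3 : e₁ ∈ K) (h4 : e₂ ∈ K) : E2 ≤ K :=
  lsub_le [1, 1027, 3076, 2053, 4103, 6152, 5129, 9226, 6155, 6156, 6157]
    [z1, ce, ce1, ce2] (by decide +kernel) (by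
    simp only [List.forall_mem_cons]
    exact ⟨inH_cd h1 cds.1, inH_cd h2 cds.2.2.2.2.1, inH_cd h3 cds.2.2.2.2.2.1,
      inH_cd h4 cds.2.2.2.2.2.2.1, nofun⟩)

theorem W_le {K : Subgroup M24} (h : ∀ c ∈ wg, InH K c) : W ≤ K :=
  lsub_le [1, 1027, 3076, 2053, 4103, 6152, 5129, 9226, 6155, 6156, 6157, 11279, 13328, 12305, 16402,
    13331, 13332, 13333, 21526, 14359, 14360, 14361, 14362, 14363, 14364, 14365, 26655, 28704,
    27681, 31778, 28707, 28708, 28709, 36902, 29735, 29736, 29737, 29738, 29739, 29740, 29741,
    46126, 30767, 30768, 30769, 30770, 30771, 30772, 30773, 30774, 30775, 30776, 30777, 30778,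
    30779, 30780, 30781] wg (by decide +kernel) h

theorem memE : z ∈ E ∧ p ∈ E ∧ q ∈ E ∧ a₀ ∈ E := by simp only [mems, cds]; decide +kernel
theorem memE2 : z ∈ E2 ∧ e ∈ E2 ∧ e₁ ∈ E2 ∧ e₂ ∈ E2 := by simp only [mems, cds]; decide +kernel
theorem E_com {a b : M24} (ha : a ∈ E) (hb : b ∈ E) : a * b = b * a :=
  lsub_com (by decide +kernel) ha hb
theorem E2_com {a b : M24} (ha : a ∈ E2) (hb : b ∈ E2) : a * b = b * a :=
  lsub_com (by decide +kernel) ha hb
theorem W_com {a b : M24} (ha : a ∈ W) (hb : b ∈ W) : a * b = b * a :=
  lsub_com (by decide +kernel) ha hb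
theorem E_le_H : E ≤ 𝐳[z] := fun _ ha => mem_z.2 (E_com ha memE.1)
theorem E2_le_H : E2 ≤ 𝐳[z] := fun _ ha => mem_z.2 (E2_com ha memE2.1)
theorem z_ne : z ≠ 1 := by simp only [ne_eq, cd_eq, cd_one, cds]; decide +kernel
theorem zz : z * z = 1 := by simp only [cd_eq, cd_mul, cd_one, cds]; decide +kernel

theorem card_H_le : Nat.card 𝐳[z] ≤ 21504 := by
  have h1 := card_fixK (⊤ ⊓ centralizer {mc z1}) bM 0
  rw [chainM.card_cent okM_z1 1 (by norm_num) (N := 1344) (by decide +kernel), fixK_zero,
    top_inf_eq, dg_bM (by norm_num)] at h1
  have h2 : MulAction.orbit (centralizer {mc z1}) (pt 0) ⊆ ↑(fixSet (mc z1))ᶜ := by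
    rintro _ ⟨g, rfl⟩
    rw [Finset.coe_compl, Set.mem_compl_iff, Finset.mem_coe, mem_fixSet]
    intro h
    have h3 : mc z1 • (g : M24) • pt 0 = (g : M24) • pt 0 := h
    rw [← mul_smul, ← mem_z.1 g.2, mul_smul, smul_left_cancel_iff] at h3
    have : pt 0 ∈ fixSet (mc z1) := mem_fixSet.2 h3
    rw [fixSet_z1] at this
    revert this
    decide +kernel
  have h3 := Set.ncard_le_ncard h2
  rw [Set.ncard_coe_finset, Finset.card_compl, card_fixSet_z1, card_golayPt] at h3
  change Nat.card (centralizer {mc z1}) ≤ _
  omega

/-- a chain for `C(z)` -/
def oH : ℕ := 0x742a408bd5b08bd5bc8bd5bf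
/-- a chain for `C(z)` -/
def uH : ℕ := 0x71a4d7d4a89de8c4a9703da24188209c8cbbd90573d2ca29b13d60418820835662a5f78a2ccaaa4e3d264188200000000000000000000000000000007d6c971a11bcd6c6aa853c90418820000000000000000000000000000000000000000000000000000000000000000000000000000000000000000000000000000000000000000000000000451368ae6e2c0cc92ab73b5e4188200000000000000000000000000000002a695835d34464c32acf3aee4188200000000000000000000000000000008adb2452ef816acb28d33a5c418820000000000000000000000000000000000000000000000000000000000000bdab49ca307b9ac5a928398a41882000000000000000000000000000000000000000000000000000000000000000000000000000000000000000000000000000000000000000000000000000000000000000000000000000000000000000000000000000000000000099a542350763eae5c6ca2a617188200000000000000000000000000000000000000000000000000000000000000000000000000000000000000000008d0c952eec396cfaa1a4849d3188200000000000000000000000000000007ae543b60454ea535d2c759111882075576518ac3dd28a3e449b63018820bd17661a2a23933ac1a7448af18820419b53ca6454297596cc8a5ee18820000000000000000000000000000000bae957b6289ba44b1cd0524ac1882000000000000000000000000000000089a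959b6f07964749168659ca188200000000000000000000000000000002d4c962dca246d0a4e477b6e8188208a6b47cae8995aa332d022dc71882000000000000000000000000000000079a925560c3cdb15bac4ba50518820bdab49ca307b9ac5a928398a418820000000000000000000000000000000000000000000000000000000000000000000000000000000000000000000000000000000000000000000000000849ab1558372928a3cd125a672dc200000000000000000000000000000000000000000000000000000000000000000000000000000000000000000002d934119837a9b15baa824ae784c2000000000000000000000000000000082cd6554ec791b7a152814a63744208b655558ecb916f4a285119c39c020726d412d439b1b7316b03ca2443c204568914983ba9706cec5219e78b8200000000000000000000000000000002b69542e6f8c0c4b1e4e1a6e25302000000000000000000000000000000073695819f3ba167492451da2262820000000000000000000000000000000bb6556248a89cd3b428e12ca37a02042d34158a355eb034e4c8b5ee21c20000000000000000000000000000000426c6548ec9928e6c570155e3b942042eb49daf071523908d1635ea39020634c97589129d6faa2979c95010c20bdab49ca307b9ac5a928398a41882000000000000000000000000000000000000000000000000000000000000099a4b25407886c248dae7d208628b70000000000000000000000000000000000000000000000000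000000000000000000000000000000000000000005365572ef1216c330a877a588082130000000000000000000000000000007ae463d404b8522b0da59d110531d1519b6748117852258ea83d184b9670ba4d61d0027064a6b171854b321d0f419ab3d004286c248e57855f35322e0000000000000000000000000000000a68d1d9029bd64a9cd0bc8057454c00000000000000000000000000000042ed2226271b9b3342a2bd1e50818a000000000000000000000000000000752d539804985a290d30bae25531e80caab634aa85d22a0ed37181143c870000000000000000000000000000003c9757984870e80686d15248c9c2e52a5a6149e362170b4e8a756f1080e42d9758341350527a124c79ae874443734c952cac3ded094e847d628080622d13699a304396c6aaaf24ae718801bdab49ca307b9ac5a928398a418820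

theorem chainH : IsChain 𝐳[z] 200768 4 oH uH :=
  (lower_of_ok (fun _ => inH_z okM_z1) (by decide +kernel)).isChain
    (card_H_le.trans (by decide +kernel))

theorem card_H : Nat.card 𝐳[z] = 21504 := chainH.card_eq.trans (by decide +kernel)

theorem gen_hs : gen hs = 𝐳[z] :=
  gen_eq_of_card (fun c hc => inH_z okM_z1 (by revert c; decide +kernel)) (by
    rw [card_H]
    exact card_ge_of_slp (inH_gen (by decide +kernel))
      [1026, 2, 3071, 1, 0, 7, 8, 9225, 4, 11269, 6, 13, 8200, 15, 1023, 3, 12300, 19, 14, 21,
    22544, 23, 1023, 3, 17408, 19455, 1, 3083, 21, 13334, 1023, 2, 8208, 26, 18, 29695, 1] 168000 6 [[39, 38, 37], [39, 33], [30, 28, 21, 13], [10, 5, 0]] (by decide +kernel))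

theorem H_le {l : List ℕ} {h : subOK l = true} (hl : allL hs (nrmC l) = true) :
    𝐳[z] ≤ normalizer (lsub l h : Set M24) := by
  rw [← gen_hs]
  refine gen_le fun c hc => ?_
  obtain ⟨g, rfl⟩ := exists_cd ((allL_iff _ _).1 (show allL hs okM = true by decide +kernel) c hc)
  exact ⟨g, nrm_iff.2 ((allL_iff _ _).1 hl _ hc), rfl⟩

theorem H_le_E : 𝐳[z] ≤ normalizer (E : Set M24) := H_le (by decide +kernel)
theorem H_le_E2 : 𝐳[z] ≤ normalizer (E2 : Set M24) := H_le (by decide +kernel)

/-- lazy implication -/
noncomputable def imp (a b : Bool) : Bool := or' (not' a) b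

theorem imp_iff {a b : Bool} : imp a b = true ↔ (a = true → b = true) := by
  cases a <;> simp [imp]

/-- elements of `C(z, p)` -/
def czp : List ℕ :=
  [817311679680102878701411278014045516, 813454150955374515270232165809889612]
/-- elements of `C(z)` -/
def h2 : List ℕ :=
  [692632103126480522855996638571334884, 56209195431528101281582128717466131]

/-- the tests made on `C(z)` -/
noncomputable def QH (c : ℕ) : Bool := force (conjC c cp) fun x =>
  and' (imp (Nat.beq x cp) (and' (imp (comC c cq) (and' (imp (comC c ca) (memL lE c))
      (imp (Nat.beq (mulC c c) oneC) (imp (Nat.beq (mulC (conjC ce c) c) z1)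
        (memL lV3 (mulC ca c)))))) (and' (imp (allL czp (comC c)) (memL lV2 c))
      (imp (allL wg (comC c)) (memL lW c)))))
    (and' (imp (memL lV2 x) (imp (nrmC lV3 c) (allL wg fun w => memL lW (conjC c w))))
      (imp (Nat.beq (mulC c c) oneC) (imp (allL h2 fun k => comC c (conjC k c))
        (or' (memL lE c) (memL l2 c)))))

theorem scanH {g : M24} (hg : g * z = z * g) : QH (cd g) = true :=
  scan chainH QH (by decide +kernel) (mem_z.2 hg)

theorem com_cd {g h : M24} {c : ℕ} (e : cd h = c) (hc : g * h = h * g) : comC (cd g) c = true :=
  e ▸ comC_iff.2 hc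

theorem beq_p {g : M24} (hg : g * p = p * g) : Nat.beq (conjC (cd g) cp) cp = true := by
  rw [← cds.2.1, ← cd_conj, beq_cd, conj_eq_iff, hg]

theorem all_com {l : List ℕ} (hl : allL l okM = true) {g : M24}
    (h : ∀ k, cd k ∈ l → g * k = k * g) : allL l (comC (cd g)) = true :=
  (allL_iff _ _).2 fun c hc => by
    obtain ⟨k, rfl⟩ := exists_cd ((allL_iff _ _).1 hl c hc)
    exact comC_iff.2 (h k hc)

theorem E_self (x : M24) (h : ∀ a ∈ E, a * x = x * a) : x ∈ E := by
  have := scanH (h z memE.1).symm
  simp only [QH, force_eq, and'_eq_true, imp_iff] at this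
  exact mems.1.2 (((this.1 (beq_p (h p memE.2.1).symm)).1 (com_cd cds.2.2.1 (h q memE.2.2.1).symm)).1
    (com_cd cds.2.2.2.1 (h a₀ memE.2.2.2).symm))

theorem uq_e {b : M24} (h1 : b * b = 1) (hz : z * b = b * z) (hp : p * b = b * p)
    (hq : q * b = b * q) (h : cm e b = z) : a₀ * b ∈ V3 := by
  have := scanH hz.symm
  simp only [QH, force_eq, and'_eq_true, imp_iff] at this
  rw [mems.2.2.2.1, cd_mul, cds.2.2.2.1]
  refine ((this.1 (beq_p hp.symm)).1 (com_cd cds.2.2.1 hq.symm)).2 ?_ ?_
  · rw [← cd_mul, ← cd_one, beq_cd, h1]
  · rw [← cds.2.2.2.2.1, ← cd_conj, ← cd_mul, ← cds.1, beq_cd, ← h, cm]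

theorem V2_cc (x : M24) (h : ∀ c, c * z = z * c ∧ c * p = p * c → c * x = x * c) : x ∈ V2 := by
  have zp := E_com memE.1 memE.2.1
  have := scanH (h z ⟨rfl, zp⟩).symm
  simp only [QH, force_eq, and'_eq_true, imp_iff] at this
  refine mems.2.2.1.2 ((this.1 (beq_p (h p ⟨zp.symm, rfl⟩).symm)).2.1
    (all_com (by decide +kernel) fun k hk => (h k ?_).symm))
  rw [← comC_iff, ← comC_iff, cds.1, cds.2.1, ← and'_eq_true]
  exact (allL_iff _ fun c => and' (comC c z1) (comC c cp)).1 (by decide +kernel) _ hk

theorem wg_mem {k : M24} (hk : cd k ∈ wg) : k ∈ W :=
  mems.2.2.2.2.2 ((allL_iff _ _).1 (show allL wg (memL lW) = true by decide +kernel) _ hk)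

theorem W_self (x : M24) (h : ∀ w ∈ W, w * x = x * w) : x ∈ W := by
  have := scanH (h z (by simp only [mems, cds]; decide +kernel)).symm
  simp only [QH, force_eq, and'_eq_true, imp_iff] at this
  exact mems.2.2.2.2.2 ((this.1 (beq_p (h p (by simp only [mems, cds]; decide +kernel)).symm)).2.2
    (all_com (by decide +kernel) fun k hk => (h k (wg_mem hk)).symm))

theorem W_norm {x : M24} (hz : x * z = z * x) (h2 : x ∈ normalizer (V2 : Set M24))
    (h3 : x ∈ normalizer (V3 : Set M24)) : x ∈ normalizer (W : Set M24) := by
  have := scanH hz
  simp only [QH, force_eq, and'_eq_true, imp_iff] at this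
  have h4 := this.2.1 (by
    rw [← cds.2.1, ← cd_conj, ← mems.2.2.1]
    exact conj_mem h2 (by simp only [mems, cds]; decide +kernel)) (nrm_iff.1 h3)
  refine mem_normalizer_fintype fun a ha =>
    W_le (K := W.comap (MulAut.conj x).toMonoidHom) (fun c hc => ?_) ha
  obtain ⟨k, rfl⟩ := exists_cd ((allL_iff _ _).1 (show allL wg okM = true by decide +kernel) c hc)
  refine ⟨k, mems.2.2.2.2.2 ?_, rfl⟩
  exact cd_conj x k ▸ (allL_iff _ _).1 h4 _ hc

theorem mem_or {x : M24} (h : Wk z x) : x ∈ E ∨ x ∈ E2 := by
  have := scanH h.1
  simp only [QH, force_eq, and'_eq_true, imp_iff, or'_eq_true] at this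
  rw [mems.1, mems.2.1]
  refine this.2.2 (by rw [← cd_mul, ← cd_one, beq_cd, h.2.1]) ((allL_iff _ _).2 fun c hc => ?_)
  have hc' := (allL_iff _ fun c => and' (okM c) (comC c z1)).1 (by decide +kernel) _ hc
  rw [and'_eq_true] at hc'
  obtain ⟨k, rfl⟩ := exists_cd hc'.1
  rw [← cd_conj, comC_iff]
  exact h.2.2 k (comC_iff.1 (cds.1 ▸ hc'.2))

theorem one_or_z {u : M24} (hu : u ∈ E) (h1 : e * u = u * e) (h2 : e₁ * u = u * e₁)
    (h3 : e₂ * u = u * e₂) : u = 1 ∨ u = z := by
  have := lsub_all (fun c => imp (comC ce c) (imp (comC ce1 c) (imp (comC ce2 c)
    (or' (Nat.beq c oneC) (Nat.beq c z1))))) (by decide +kernel) hu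
  simp only [imp_iff, or'_eq_true, ← cd_one, ← cds, comC_iff, beq_cd] at this
  exact this h1 h2 h3

theorem cent_H (x : M24) (h : ∀ c, c * z = z * c → c * x = x * c) : x = 1 ∨ x = z :=
  one_or_z (E_self x fun a ha => h a (E_com ha memE.1)) (h _ (E2_com memE2.2.1 memE2.1))
    (h _ (E2_com memE2.2.2.1 memE2.1)) (h _ (E2_com memE2.2.2.2 memE2.1))

theorem inf_E2 {a : M24} (h1 : a ∈ E) (h2 : a ∈ E2) : a = 1 ∨ a = z :=
  one_or_z h1 (E2_com memE2.2.1 h2) (E2_com memE2.2.2.1 h2) (E2_com memE2.2.2.2 h2)

/-- tables of conjugating elements -/
def tN1 : List ℕ :=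
  [631405932296992405922288850213979200, 318502425094756105720762764785499872,
    723934194513189251713910306595509568, 635312822530700135459360490851142144,
    97625757306253134370971988964884704, 631333669769308191147409452626627680,
    439223330776888473751101414399418912, 984818244535754528103549039458486304,
    427934889793457561297856843193137632, 649900484137114288563634826150841792,
    443016137647930469839517822297194656, 91334648775640815241032928626949504,
    303206944289176557428230047836280064, 527886598121230848734531267956381280,
    95668626097632786478517626517015680]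
/-- tables of conjugating elements -/
def tT2 : List ℕ :=
  [152338151015802874716414762667970592, 220213109803259289183002082616117280,
    515793429513137652143188623859222560, 812852730107173232200347929486133280,
    190419515115466401388168329760442400, 95301346137981343836959427293057056,
    590072960059042287979885064796342304, 358662142733855540651195105552730144,
    720981692062171673584743151055243296, 984818244535754528103549039458486304,
    443022936523562195853578270764271648, 651239579074641248992907580101724192,
    681942991418186671700734416290678816, 317002149892226809164728472370776096]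
/-- tables of conjugating elements -/
def tT3 : List ℕ :=
  [981737719767249052369456315699891232, 979625774317225208677802407539060768,
    963645349717804226248391421845851168, 973096267945776834731806873318821920,
    984818244535754528103549039458486304, 979283409119483249701587601985157152,
    969916658409365797258210904983969824, 963640518972357266310373335248618528,
    981894611524621315333578551116310560, 967972151826893455776265920342932512,
    984313246495790939268737886350589984, 983389474727683669534519614402337824]
/-- tables of conjugating elements -/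
def tT4 : List ℕ :=
  [984818244535754528103549039458486304, 981818691054096003685363657089320992,
    970499966350631336865513127433832480, 972512676110088067912772961567868960,
    963721886883755259286232606933354528, 983548720921252936276249910206105632,
    979121071158219704299181131031480352, 967812279691448225500382947153381408]
/-- tables of conjugating elements -/
def tN2 : List ℕ :=
  [145880839931491810577792262140902117, 44748432286653102908873314545549706,
    710452840642168958829209226165197541, 445530282024018524208315932556448835,
    472904999598412626901467554191722724, 973609749678138222173398651755367559,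
    252763758430430164398328529080783218, 629656359332326271996829413580089376,
    297608450020087083967088660147706166, 416077789421282102826622284742702215,
    338439273680496053438843763058579892, 766171949874548072815258031666573583,
    189004902370919658743117625209181549, 457267497933430831145249520912404874]

theorem N1 {v : M24} (hv : v ∈ E) : v = 1 ∨ ∃ n ∈ normalizer (E : Set M24), n * z * n⁻¹ = v := by
  have := lsub_all (fun c => or' (Nat.beq c oneC) (anyL tN1 fun n => and' (cjC n z1 c) (nrmC lE n)))
    (by decide +kernel) hv
  rw [or'_eq_true, ← cd_one, beq_cd] at this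
  refine this.imp_right fun h => ?_
  obtain ⟨n, hn⟩ := tab_any (by decide +kernel) h
  rw [and'_eq_true, ← cds.1, cjC_iff] at hn
  exact ⟨n, nrm_iff.2 hn.2, hn.1⟩

theorem T2 {v : M24} (hv : v ∈ E) : v = 1 ∨ v = z ∨ ∃ n, n * z = z * n ∧ n * p * n⁻¹ = v := by
  have := lsub_all (fun c => or' (Nat.beq c oneC) (or' (Nat.beq c z1)
    (anyL tT2 fun n => and' (cjC n cp c) (comC n z1)))) (by decide +kernel) hv
  rw [or'_eq_true, or'_eq_true, ← cd_one, ← cds.1, beq_cd, beq_cd] at this
  refine this.imp_right fun h => h.imp_right fun h => ?_
  obtain ⟨n, hn⟩ := tab_any (by decide +kernel) h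
  rw [and'_eq_true, ← cds.2.1, cjC_iff, comC_iff] at hn
  exact ⟨n, hn.2, hn.1⟩

theorem T3 {v : M24} (hv : v ∈ E) :
    v ∈ V2 ∨ ∃ n, n * z = z * n ∧ n * p = p * n ∧ n * q * n⁻¹ = v := by
  have := lsub_all (fun c => or' (memL lV2 c)
    (anyL tT3 fun n => and' (cjC n cq c) (and' (comC n z1) (comC n cp)))) (by decide +kernel) hv
  rw [or'_eq_true, ← mems.2.2.1] at this
  refine this.imp_right fun h => ?_
  obtain ⟨n, hn⟩ := tab_any (by decide +kernel) h
  simp only [and'_eq_true, ← cds, cjC_iff, comC_iff] at hn
  exact ⟨n, hn.2.1, hn.2.2, hn.1⟩

theorem T4 {v : M24} (hv : v ∈ E) :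
    v ∈ V3 ∨ ∃ n, n * z = z * n ∧ n * p = p * n ∧ n * q = q * n ∧ n * a₀ * n⁻¹ = v := by
  have := lsub_all (fun c => or' (memL lV3 c) (anyL tT4 fun n => and' (cjC n ca c)
    (and' (comC n z1) (and' (comC n cp) (comC n cq))))) (by decide +kernel) hv
  rw [or'_eq_true, ← mems.2.2.2.1] at this
  refine this.imp_right fun h => ?_
  obtain ⟨n, hn⟩ := tab_any (by decide +kernel) h
  simp only [and'_eq_true, ← cds, cjC_iff, comC_iff] at hn
  exact ⟨n, hn.2.1, hn.2.2.1, hn.2.2.2, hn.1⟩

theorem N2 {v : M24} (hv : v ∈ E2) :
    v = 1 ∨ v = z ∨ ∃ m, m * z * m⁻¹ = v ∧ m⁻¹ * z * m ∈ E2 := by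
  have := lsub_all (fun c => or' (Nat.beq c oneC) (or' (Nat.beq c z1) (anyL tN2 fun n =>
    and' (cjC n z1 c) (force (invC n) fun m => memL l2 (conjC m z1))))) (by decide +kernel) hv
  rw [or'_eq_true, or'_eq_true, ← cd_one, ← cds.1, beq_cd, beq_cd] at this
  refine this.imp_right fun h => h.imp_right fun h => ?_
  obtain ⟨n, hn⟩ := tab_any (by decide +kernel) h
  rw [and'_eq_true, cjC_iff, force_eq, ← cd_inv, ← cd_conj, ← mems.2.1, inv_inv] at hn
  exact ⟨n, hn⟩

end Cfsg.Agent.Wr.MC
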