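import Cfsg.Agent.Wr.M24B
import Cfsg.Agent.S5607
import Cfsg.Agent.S0365

/-! Rigidity of the involution centralisers of `M24` and its Sylow data. -/

set_option autoImplicit false

namespace Cfsg.Agent.Wr.MC

open Cfsg Subgroup Cfsg.Agent.Comp Cfsg.Agent.Spor Cfsg.Agent.Spor.M24C Cfsg.Agent.Lyons
open Cfsg.Agent.PLocal Cfsg.Agent.PLocal.Amb
open scoped commutatorElement

theorem hs_com {c : ℕ} (hc : c ∈ hs) :
    mc c * mc c = 1 ∧ ∃ u ∈ 𝐳[z], ∃ v ∈ 𝐳[z], mc c = ⁅u, v⁆ := by
  have := (allL_iff hs fun c => and' (and' (okM c) (Nat.beq (mulC c c) oneC)) (anyL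
    [(423714047155142166985947340897493220, 979121071158219704299181131031480352),
    (314592203728567952245155216730652770, 649430848441573170210581894381514784),
    (673306848962890944066991842971232288, 317002149892226809164728472370776096)]
    fun s => and' (and' (and' (okM s.1) (comC s.1 z1)) (and' (okM s.2) (comC s.2 z1)))
      (Nat.beq c (mulC (conjC s.1 s.2) (invC s.2))))).1 (by decide +kernel) _ hc
  simp only [and'_eq_true, anyL_iff] at this
  obtain ⟨⟨h1, h2⟩, ⟨u, v⟩, -, ⟨⟨h3, h4⟩, h5, h6⟩, h7⟩ := this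
  obtain ⟨g, rfl⟩ := exists_cd h1
  obtain ⟨u, rfl⟩ := exists_cd h3
  obtain ⟨v, rfl⟩ := exists_cd h5
  simp only [← cds, ← cd_mul, ← cd_inv, ← cd_conj, ← cd_one, comC_iff, beq_cd] at h2 h4 h6 h7
  rw [mc_cd]
  exact ⟨h2, u, mem_z.2 h4, v, mem_z.2 h6, h7⟩

theorem gc_H : Gc 𝐳[z] := ⟨_, gen_hs, by rintro _ ⟨c, hc, rfl⟩; exact hs_com hc⟩

/-- automorphisms of `C(z)` -/
structure Au (α : M24 → M24) : Prop where
  mem : ∀ x ∈ 𝐳[z], α x ∈ 𝐳[z]
  mul : ∀ x ∈ 𝐳[z], ∀ y ∈ 𝐳[z], α (x * y) = α x * α y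
  inj : ∀ x ∈ 𝐳[z], ∀ y ∈ 𝐳[z], α x = α y → x = y

namespace Au
variable {α : M24 → M24} (h : Au α)
include h

theorem one : α 1 = 1 := by simpa using h.mul 1 (one_mem _) 1 (one_mem _)

theorem inv {x : M24} (hx : x ∈ 𝐳[z]) : α x⁻¹ = (α x)⁻¹ :=
  eq_inv_of_mul_eq_one_left (by rw [← h.mul _ (inv_mem hx) _ hx, inv_mul_cancel, h.one])

theorem cj {x c : M24} (hx : x ∈ 𝐳[z]) (hc : c ∈ 𝐳[z]) : α (c * x * c⁻¹) = α c * α x * (α c)⁻¹ := by
  rw [h.mul _ (mul_mem hc hx) _ (inv_mem hc), h.mul _ hc _ hx, h.inv hc]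

theorem surj {c : M24} (hc : c ∈ 𝐳[z]) : ∃ x ∈ 𝐳[z], α x = c :=
  (((Set.toFinite (𝐳[z] : Set M24)).injOn_iff_bijOn_of_mapsTo h.mem).1
    fun x hx y hy => h.inj x hx y hy).surjOn hc

theorem com {x w : M24} (hx : x ∈ 𝐳[z]) (hw : w ∈ 𝐳[z]) : α x * α w = α w * α x ↔ x * w = w * x := by
  rw [← h.mul _ hx _ hw, ← h.mul _ hw _ hx]
  exact ⟨h.inj _ (mul_mem hx hw) _ (mul_mem hw hx), fun e => by rw [e]⟩

theorem fz : α z = z := by
  refine (cent_H _ fun c hc => ?_).resolve_left fun e =>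
    z_ne (h.inj _ (mem_z.2 rfl) _ (one_mem _) (e.trans h.one.symm))
  obtain ⟨x, hx, rfl⟩ := h.surj (mem_z.2 hc)
  exact (h.com hx (mem_z.2 rfl)).2 (mem_z.1 hx)

theorem or {B : Subgroup M24} (hB : B ≤ 𝐳[z]) (hn : 𝐳[z] ≤ normalizer (B : Set M24))
    (hc : ∀ a ∈ B, ∀ b ∈ B, a * b = b * a) (h2 : ∀ a ∈ B, a * a = 1) :
    (∀ a ∈ B, α a ∈ E) ∨ ∀ a ∈ B, α a ∈ E2 := by
  have key : ∀ a ∈ B, α a ∈ E ∨ α a ∈ E2 := fun a ha => mem_or ⟨mem_z.1 (h.mem a (hB ha)), by
    rw [← h.mul _ (hB ha) _ (hB ha), h2 a ha, h.one], fun c hc' => by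
      obtain ⟨x, hx, rfl⟩ := h.surj (mem_z.2 hc')
      have := conj_mem (hn hx) ha
      rw [← h.cj (hB ha) hx]
      exact (h.com (hB ha) (hB this)).2 (hc a ha _ this)⟩
  by_contra hc
  push Not at hc
  obtain ⟨⟨a, ha, h1⟩, b, hb, h3⟩ := hc
  have := key _ (mul_mem ha hb)
  rw [h.mul _ (hB ha) _ (hB hb)] at this
  rcases this with e | e
  · exact h1 ((E.mul_mem_cancel_right ((key b hb).resolve_right h3)).1 e)
  · exact h3 ((E2.mul_mem_cancel_left ((key a ha).resolve_left h1)).1 e)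

theorem tw {n : M24} (hn : n ∈ 𝐳[z]) : Au fun x => n⁻¹ * α x * n :=
  ⟨fun x hx => mul_mem (mul_mem (inv_mem hn) (h.mem x hx)) hn, fun x hx w hw => by
    rw [h.mul x hx w hw]; group, fun x hx w hw e => h.inj x hx w hw (by simpa using e)⟩

/-- the fixed points -/
def Fx : Subgroup M24 where
  carrier := {x | x ∈ 𝐳[z] ∧ α x = x}
  one_mem' := ⟨one_mem _, h.one⟩
  mul_mem' := fun {a b} ha hb => ⟨mul_mem ha.1 hb.1, by rw [h.mul a ha.1 b hb.1, ha.2, hb.2]⟩
  inv_mem' := fun {a} ha => ⟨inv_mem ha.1, by rw [h.inv ha.1, ha.2]⟩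

theorem not_fx {b : M24} (hb : b ∈ 𝐳[z]) (e : α b ∈ h.Fx) : α b = b := h.inj _ e.1 _ hb e.2

theorem zF : z ∈ h.Fx := ⟨mem_z.2 rfl, h.fz⟩

end Au

/-- inner automorphisms -/
def Inn (α : M24 → M24) : Prop := ∃ c ∈ 𝐳[z], ∀ x ∈ 𝐳[z], α x = c * x * c⁻¹

/-- automorphisms fixing `E` and `E2` -/
def Gd (α : M24 → M24) : Prop := Au α ∧ (∀ a ∈ E, α a ∈ E) ∧ ∀ a ∈ E2, α a ∈ E2

theorem red {α : M24 → M24} (h : Gd α) {n : M24} (hn : n * z = z * n)
    (k : Gd (fun x => n⁻¹ * α x * n) → Inn fun x => n⁻¹ * α x * n) : Inn α := by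
  have hn' := mem_z.2 hn
  obtain ⟨c, hc, e⟩ := k ⟨h.1.tw hn', fun a ha => conj_mem' (H_le_E hn') (h.2.1 a ha),
    fun a ha => conj_mem' (H_le_E2 hn') (h.2.2 a ha)⟩
  refine ⟨n * c, mul_mem hn' hc, fun x hx => ?_⟩
  rw [show n * c * x * (n * c)⁻¹ = n * (c * x * c⁻¹) * n⁻¹ by group, ← e x hx]; group

theorem tw_fix {n x w : M24} (e : n * x * n⁻¹ = w) : n⁻¹ * w * n = x := by rw [← e]; group

theorem defect {α : M24 → M24} (h : Au α) {B : Subgroup M24} (hB : B ≤ h.Fx)
    {x : M24} (hx : x ∈ 𝐳[z]) (hn : 𝐳[z] ≤ normalizer (B : Set M24)) {a : M24} (ha : a ∈ B) :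
    a * (x⁻¹ * α x) = x⁻¹ * α x * a := by
  have := h.cj (hB ha).1 hx
  rw [(hB (conj_mem (hn hx) ha)).2, (hB ha).2] at this
  calc _ = x⁻¹ * (x * a * x⁻¹) * α x := by group
    _ = _ := by rw [this]; group

theorem inn5 {α : M24 → M24} (h : Au α) (h1 : E ≤ h.Fx) (h2 : E2 ≤ h.Fx) : Inn α := by
  have key : ∀ x ∈ 𝐳[z], ∃ w, α x = x * w ∧ ∀ c ∈ 𝐳[z], c * w = w * c := fun x hx => by
    refine ⟨x⁻¹ * α x, by group, fun c hc => ?_⟩
    rcases one_or_z (E_self _ fun a ha => defect h h1 hx H_le_E ha)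
      (defect h h2 hx H_le_E2 memE2.2.1) (defect h h2 hx H_le_E2 memE2.2.2.1)
      (defect h h2 hx H_le_E2 memE2.2.2.2) with e | e <;> rw [e]
    exacts [by simp, mem_z.1 hc]
  have : gen hs ≤ h.Fx := closure_le _ |>.2 (by
    rintro _ ⟨c, hc, rfl⟩
    obtain ⟨-, u, hu, v, hv, e⟩ := hs_com hc
    obtain ⟨w, e1, c1⟩ := key u hu
    obtain ⟨w', e2, c2⟩ := key v hv
    have huv := mul_mem (mul_mem hu hv) (inv_mem hu)
    rw [e, commutatorElement_def]
    refine ⟨mul_mem huv (inv_mem hv), ?_⟩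
    have c3 := c1 _ (h.mem v hv)
    rw [h.mul _ huv _ (inv_mem hv), h.cj hv hu, h.inv hv, e1]
    calc _ = u * (w * α v) * w⁻¹ * u⁻¹ * (α v)⁻¹ := by group
      _ = u * v * (w' * u⁻¹) * w'⁻¹ * v⁻¹ := by rw [← c3, e2]; group
      _ = _ := by rw [← c2 _ (inv_mem hu)]; group)
  exact ⟨1, one_mem _, fun x hx => by simpa using (this (gen_hs ▸ hx)).2⟩

theorem dual {x x₁ x₂ : M24} (h : x = e ∨ x = e * z) (h₁ : x₁ = e₁ ∨ x₁ = e₁ * z)
    (h₂ : x₂ = e₂ ∨ x₂ = e₂ * z) :
    ∃ a ∈ E, a * e * a⁻¹ = x ∧ a * e₁ * a⁻¹ = x₁ ∧ a * e₂ * a⁻¹ = x₂ := by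
  suffices anyL lE (fun a => and' (cjC a ce (cd x)) (and' (cjC a ce1 (cd x₁)) (cjC a ce2 (cd x₂)))) =
      true by
    obtain ⟨a, ha, h⟩ := lsub_any (h := okE) _ this
    exact ⟨a, ha, by simpa only [and'_eq_true, ← cds, cjC_iff] using h⟩
  rcases h with rfl | rfl <;> rcases h₁ with rfl | rfl <;> rcases h₂ with rfl | rfl <;>
  · simp only [cd_mul, cds]
    decide +kernel

theorem inn4 {α : M24 → M24} (h : Gd α) (h1 : E ≤ h.1.Fx) : Inn α := by
  have key : ∀ x ∈ E2, α x = x ∨ α x = x * z := fun x hx => by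
    rcases inf_E2 (E_self _ fun a ha => defect h.1 h1 (E2_le_H hx) H_le_E ha)
      (mul_mem (inv_mem hx) (h.2.2 x hx)) with e | e
    · exact Or.inl (inv_mul_eq_one.1 e).symm
    · right; rw [← e]; group
  obtain ⟨a, ha, e1, e2, e3⟩ := dual (key _ memE2.2.1) (key _ memE2.2.2.1) (key _ memE2.2.2.2)
  refine red h (E_com ha memE.1) fun h' => inn5 h'.1 (fun b hb => ⟨E_le_H hb, ?_⟩)
    (E2_le h'.1.zF ⟨E2_le_H memE2.2.1, tw_fix e1⟩ ⟨E2_le_H memE2.2.2.1, tw_fix e2⟩
      ⟨E2_le_H memE2.2.2.2, tw_fix e3⟩)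
  exact tw_fix ((conj_eq_iff.2 (E_com ha hb)).trans (h1 hb).2.symm)

theorem nmem : q ∉ V2 ∧ a₀ ∉ V3 := by simp only [mems, cds]; decide +kernel

theorem inn3 {α : M24 → M24} (h : Gd α) (h1 : α p = p) (h2 : α q = q) : Inn α := by
  rcases T4 (h.2.1 _ memE.2.2.2) with e | ⟨n, n1, n2, n3, n4⟩
  · exact absurd (h.1.not_fx (E_le_H memE.2.2.2) (V3_le h.1.zF ⟨E_le_H memE.2.1, h1⟩
      ⟨E_le_H memE.2.2.1, h2⟩ e) ▸ e) nmem.2
  · exact red h n1 fun h' => inn4 h' (E_le h'.1.zF
      ⟨E_le_H memE.2.1, tw_fix ((conj_eq_iff.2 n2).trans h1.symm)⟩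
      ⟨E_le_H memE.2.2.1, tw_fix ((conj_eq_iff.2 n3).trans h2.symm)⟩ ⟨E_le_H memE.2.2.2, tw_fix n4⟩)

theorem inn2 {α : M24 → M24} (h : Gd α) (h1 : α p = p) : Inn α := by
  rcases T3 (h.2.1 _ memE.2.2.1) with e | ⟨n, n1, n2, n3⟩
  · exact absurd (h.1.not_fx (E_le_H memE.2.2.1) (V2_le h.1.zF ⟨E_le_H memE.2.1, h1⟩ e) ▸ e) nmem.1
  · exact red h n1 fun h' => inn3 h' (tw_fix ((conj_eq_iff.2 n2).trans h1.symm)) (tw_fix n3)

theorem inn1 {α : M24 → M24} (h : Gd α) : Inn α := by
  rcases T2 (h.2.1 _ memE.2.1) with e | e | ⟨n, n1, n2⟩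
  · exact absurd (h.1.inj _ (E_le_H memE.2.1) _ (one_mem _) (e.trans h.1.one.symm)) nes.1
  · exact absurd (h.1.inj _ (E_le_H memE.2.1) _ (mem_z.2 rfl) (e.trans h.1.fz.symm)).symm nes.2.2.1
  · exact red h n1 fun h' => inn2 h' (tw_fix n2)

theorem sqE2 (a : M24) (ha : a ∈ E2) : a * a = 1 := by
  have := lsub_all (fun c => Nat.beq (mulC c c) oneC) (by decide +kernel) ha
  simpa only [← cd_mul, ← cd_one, beq_cd] using this

theorem au_cases {α : M24 → M24} (h : Au α) :
    Inn α ∨ ((∀ a ∈ E, α a ∈ E2) ∧ ∀ a ∈ E2, α a ∈ E) := by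
  have nc : e * a₀ ≠ a₀ * e := by simp only [ne_eq, cd_eq, cd_mul, cds]; decide +kernel
  have nc' := fun e1 => nc ((h.com (E2_le_H memE2.2.1) (E_le_H memE.2.2.2)).1 e1)
  rcases h.or E_le_H H_le_E (fun _ ha _ hb => E_com ha hb) fun _ ha => sqE ha with h1 | h1 <;>
    rcases h.or E2_le_H H_le_E2 (fun _ ha _ hb => E2_com ha hb) sqE2 with h2 | h2
  · exact (nc' (E_com (h2 _ memE2.2.1) (h1 _ memE.2.2.2))).elim
  · exact Or.inl (inn1 ⟨h, h1, h2⟩)
  · exact Or.inr ⟨h1, h2⟩
  · exact (nc' (E2_com (h2 _ memE2.2.1) (h1 _ memE.2.2.2))).elim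

theorem rg : Rg z E E2 := fun α h1 h2 h3 => by
  have h : Au α := ⟨fun x hx => mem_z.2 (h1 x (mem_z.1 hx)),
    fun x hx w hw => h2 x w (mem_z.1 hx) (mem_z.1 hw), fun x hx w hw => h3 x w (mem_z.1 hx) (mem_z.1 hw)⟩
  have : ∀ c, ∃ x, c ∈ 𝐳[z] → x ∈ 𝐳[z] ∧ α x = c := fun c => by
    by_cases hc : c ∈ 𝐳[z]
    · exact (h.surj hc).imp fun x hx _ => hx
    · exact ⟨1, fun h => absurd h hc⟩
  choose β hβ using this
  have h' : Au β := ⟨fun x hx => (hβ x hx).1, fun x hx w hw => h.inj _ (hβ _ (mul_mem hx hw)).1 _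
    (mul_mem (hβ x hx).1 (hβ w hw).1) (by
      rw [h.mul _ (hβ x hx).1 _ (hβ w hw).1, (hβ _ (mul_mem hx hw)).2, (hβ x hx).2, (hβ w hw).2]),
    fun x hx w hw e => by rw [← (hβ x hx).2, e, (hβ w hw).2]⟩
  rcases au_cases h' with ⟨c, hc, e⟩ | ⟨e1, e2⟩
  · refine Or.inl ⟨c⁻¹, mem_z.1 (inv_mem hc), fun x hx => ?_⟩
    have hx' := mul_mem (mul_mem (inv_mem hc) (mem_z.2 hx)) (inv_mem (inv_mem hc))
    rw [← (hβ _ hx').2, e _ hx']
    congr 1
    group
  · exact Or.inr ⟨fun a ha => ⟨β a, e1 a ha, (hβ a (E_le_H ha)).2⟩,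
      fun a ha => ⟨β a, e2 a ha, (hβ a (E2_le_H ha)).2⟩⟩

theorem y_conj : ∃ k, k * mc z2 * k⁻¹ = y := by
  obtain ⟨k, h⟩ := exists_cd (c := 178271110445313814321244234618129568) (by decide +kernel)
  exact ⟨k, by simp only [cd_eq, cd_conj, cds, h, cd_mc okM_z2]; decide +kernel⟩

theorem cls (a : M24) (h2 : a * a = 1) (h1 : a ≠ 1) : ∃ b, b * a * b⁻¹ = z ∨ b * a * b⁻¹ = y := by
  obtain ⟨k, hk⟩ := y_conj
  obtain ⟨b, h | h⟩ := invol_conj a h1 h2
  · exact ⟨b, Or.inl h⟩
  · exact ⟨k * b, Or.inr (by rw [← hk, ← h]; group)⟩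

theorem card_Y : Nat.card 𝐳[y] = 7680 := by
  obtain ⟨k, hk⟩ := y_conj
  rw [← S5607.card_C, ← card_cj k (centralizer {mc z2})]
  congr 2
  ext x
  rw [mem_cj, ← hk, mem_centralizer_singleton_conj]

theorem y_ne : y ≠ 1 := by simp only [ne_eq, cd_eq, cd_one, cds]; decide +kernel

theorem cz_z : Cz z z := ⟨e, a₀, E2_com memE2.2.1 memE2.1, E_com memE.2.2.2 memE.1, by
  simp only [commutatorElement_def, cd_eq, cd_mul, cd_inv, cds]; decide +kernel⟩

theorem cz_of (u v : ℕ) {x : M24} (h : and' (and' (okM u) (okM v)) (and' (and' (comC u cy) (comC v cy))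
    (Nat.beq (cd x) (mulC (conjC u v) (invC v)))) = true) : Cz y x := by
  simp only [and'_eq_true] at h
  obtain ⟨u, rfl⟩ := exists_cd h.1.1
  obtain ⟨v, rfl⟩ := exists_cd h.1.2
  simp only [← cds, ← cd_inv, ← cd_conj, ← cd_mul, comC_iff, beq_cd] at h
  exact ⟨u, v, h.2.1.1, h.2.1.2, h.2.2⟩

theorem cz_y : Cz y y := cz_of 66547034727753387512685725177285344 216031257977568192633985706410183681
  (by simp only [cds]; decide +kernel)

/-- a chain for `C(y)` -/
def oY : ℕ := 0x995907fffdc800002ffffff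
/-- a chain for `C(y)` -/
def uY : ℕ := 0xbd6cb22627638cfa224a834b318820000000000000000000000000000000000000000000000000000000000000bb4c93ae2453ac893e8c9d4b018820bd17661a2a23933ac1a7448af18820000000000000000000000000000000000000000000000000000000000000bae957b6289ba44b1cd0524ac18820000000000000000000000000000000ba64d4562f83a87312d362caa18820000000000000000000000000000000bc92655a2c3b9706cea47d0a818820b99b28523343aaa4b16f258a718820000000000000000000000000000000000000000000000000000000000000bdab49ca307b9ac5a928398a418820000000000000000000000000000000000000000000000000000000000000000000000000000000000000000000000000000000000000000000000000000000000000000000000000000000ba853230c74ca2f1a1d56c0aba5820ba0449bdb09262c1a9d631cb45d420bb07022a47a99cf122295ccadb5020bd8f41498e5c11178c8da98a954c20bcc4a4428fada27191c95b0ad34820bd1b69985038eac4a9647c8a874420bbec76a14b1ccd5a2651110ae64020bc12ca4c861a1726dab1128ae3bc20bd974848733892aab1a4798a88b820bbc47822b3a2e2a1b1c6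b10b24b420bc8e675a624a9037c4956d0ab83020bbc679a130b35cc12a32a10a6aac20b928849e151b24bb34d113cae9a820b904851d6cb56301cdd2a3ca66a420bcd6a940f61bd34a99b1130ae22020bb2b032914191b65c93114cae79c20bb0503aac45d2281bdcdacca991820000000000000000000000000000000ba9b3b31f219ea64d171140ae41020bd136819d37c56a6b2a83c8a410c20bdab49ca307b9ac5a928398a4188200000000000000000000000000000000000000000000000000000000000000b9a244604a4ea75bd3630cb262ae000000000000000000000000000000000000000000000000000000000000000000000000000000000000000000000000000000000000000000000000000000000000000000000000000000000000000000000000000000000000000000000000000000000000000000000000000000000000000000000000000000000000000000000000000000000000000000000000000000000000000000000000000000000000000000000000000000000000000000000000000000000000000000000000000000000000000000000000000000000000000000000000000000000000000000000000000000000000000000000000000000000000000000000000000000000000000000000000000000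0000000000000000000000000000000000000000000000000000000000000000000000000000000000000000000000000bdab49ca307b9ac5a928398a41882000000000000000000000000000000028ed15089359cd0932956b82943c17a1047ba2655c221700756bcc9532564c08c8ce43299e2438e1ba9a0b517530d620c50551137a81ac9ba5079ed4820c41bcb1adece90a8959d8d08153b4cea2c2a18ad007dc83732824b4d273ec829eb79a4c09068a8104c5b4719c8462d9613d6201ddc47d1486a59039974bca6514121682a3758915310f8be8829d3785640306cc9906a6ac4e4d8f22d23780d00205ec99aaa7096d53a9120927bb64fb20c028e61aae0cad0e62d9d798900205ea8492c88dab618522d2a142e201ddcf25a074b66aa99d2252672a86f8a041bd960831a925932bd20514d61a81a3718f1629e878a0e28db732d4098592a45164d487956092ae3738d409858f236c870a86ba90c4ce2da0ceb7d496340127082544ab6b9985129a148163751f184ce414d70ba8c53d121682af231c895a2319e842bdb79ae40306ca8222c4d5c2042938b2ae3a64230ecf22ae85b4a1bdab49ca307b9ac5a928398a418820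

theorem ok_y : okM cy = true := by decide +kernel

theorem chainY : IsChain 𝐳[y] 133152 4 oY uY :=
  (lower_of_ok (fun _ => inH_z ok_y) (by decide +kernel)).isChain
    (card_Y.le.trans (by decide +kernel))

/-- generators of `C(y)` -/
def gY : List ℕ :=
  [134518228264775551435689495777039810, 299029569536993419571444531246477583]

theorem Y_le : 𝐳[y] ≤ normalizer (W : Set M24) := by
  rw [← gen_eq_of_card (l := gY) (H := 𝐳[y]) (fun c hc => inH_z ok_y (by revert c; decide +kernel)) (by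
    rw [card_Y]
    exact card_ge_of_slp (inH_gen (by decide +kernel))
      [1025, 2047, 1, 3076, 4, 0, 1, 4, 6143, 1, 5127, 6, 7, 8, 9225, 10, 13, 14, 15373, 14, 1023, 3] 4160 5 [[23, 22], [19, 17], [12, 8, 0]] (by decide +kernel))]
  refine gen_le fun c hc => ?_
  obtain ⟨g, rfl⟩ := exists_cd ((allL_iff _ _).1 (show allL gY okM = true by decide +kernel) c hc)
  exact ⟨g, nrm_iff.2 ((allL_iff _ _).1 (show allL gY (nrmC lW) = true by decide +kernel) _ hc), rfl⟩

theorem yW : y ∈ W := by simp only [mems, cds]; decide +kernel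

theorem wk_of {x : M24} (hx : x ∈ W) : Wk y x := by
  refine ⟨W_com hx yW, ?_, fun c hc => W_com hx (conj_mem (Y_le (mem_z.2 hc)) hx)⟩
  have := lsub_all (fun c => Nat.beq (mulC c c) oneC) (by decide +kernel) hx
  simpa only [← cd_mul, ← cd_one, beq_cd] using this

/-- the identity and the `2B`-involutions of `W` -/
def lB : List ℕ :=
  [984818244535754528103549039458486304, 234127864083396158983920601914215425,
    231430402638782518167556747523329025, 215949850607506746995491323292203009,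
    234209230989088290385717040715970561, 231592582225774506953620459080860673,
    215868879397575339769310546510693377, 49715142695792660998012126014541541,
    65439320909816303528382406653447909, 67893313772052210390111241894410981,
    65357953152778303778093879598299877, 67974601839025427393016603459667685,
    49877480733971750490145161576138469, 26517198606200547826208196195847351,
    8258135158727474029880921329568951, 23738686339186281899546858814486711,
    8339026678746245813039271321843895, 23819657471673239989883455574328503,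
    26354859639231140849738892359189687]
/-- elements of `C(y)` -/
def ya : List ℕ :=
  [444410556040646598660309634744720915, 847857303680594144358996457243030086]

/-- trivial or without fixed points -/
noncomputable def okB (c : ℕ) : Bool := force c fun c => or' (Nat.beq c oneC) (Nat.beq (nfix c) 0)

theorem okB_of {x : M24} (h : Cl y x) : okB (cd x) = true := by
  rw [okB, force_eq, or'_eq_true, ← cd_one, beq_cd, beq_iff]
  refine h.imp_right fun ⟨k, e⟩ => (nfix_conj e).trans ?_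
  rw [cds.2.2.2.2.2.2.2.1]
  decide +kernel

theorem mem_lB {x : M24} (h : Wk y x) (hx : Cl y x) : cd x ∈ lB := by
  have := scan chainY (fun c => imp (Nat.beq (mulC c c) oneC) (imp (okB c)
    (imp (allL ya fun k => comC c (conjC k c)) (memL lB c)))) (by decide +kernel) (mem_z.2 h.1)
  simp only [imp_iff] at this
  refine memL_iff.1 (this (by rw [← cd_mul, ← cd_one, beq_cd, h.2.1]) (okB_of hx)
    ((allL_iff _ _).2 fun c hc => ?_))
  have hc' := (allL_iff _ fun c => and' (okM c) (comC c cy)).1 (by decide +kernel) _ hc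
  rw [and'_eq_true] at hc'
  obtain ⟨k, rfl⟩ := exists_cd hc'.1
  rw [← cd_conj, comC_iff]
  exact h.2.2 k (comC_iff.1 (cds.2.2.2.2.2.2.2.1 ▸ hc'.2))

theorem cl_of (k : ℕ) {x : M24} (h : and' (okM k) (cjC k cy (cd x)) = true) : Cl y x := by
  rw [and'_eq_true] at h
  obtain ⟨k, rfl⟩ := exists_cd h.1
  exact cl_of_conj (cjC_iff.1 (cds.2.2.2.2.2.2.2.1 ▸ h.2))

theorem noY : NoY y := by
  refine ⟨fun a b c wa wb wc ha hb hc hab hac => ?_, ?_⟩
  · have := (allL_iff lB fun a => allL lB fun b => force (mulC a b) fun ab => imp (okB ab)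
      (allL lB fun c => imp (okB (mulC a c)) (or' (Nat.beq a oneC) (or' (Nat.beq b oneC)
        (or' (Nat.beq b a) (or' (Nat.beq c oneC) (or' (Nat.beq c a) (or' (Nat.beq c b)
          (Nat.beq c ab))))))))).1 (by decide +kernel) _ (mem_lB wa ha)
    have := (allL_iff _ _).1 this _ (mem_lB wb hb)
    rw [force_eq, ← cd_mul, imp_iff] at this
    have := (allL_iff _ _).1 (this (okB_of hab)) _ (mem_lB wc hc)
    rw [← cd_mul, imp_iff] at this
    simpa only [Dg, or'_eq_true, ← cd_one, beq_cd] using this (okB_of hac)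
  · obtain ⟨a, h1⟩ := exists_cd (c := 979121071158219704299181131031480352) (by decide +kernel)
    obtain ⟨b, h2⟩ := exists_cd (c := 236640362003071688657525297027528705) (by decide +kernel)
    obtain ⟨c, h3⟩ := exists_cd (c := 24225226902548029001006560607014071) (by decide +kernel)
    refine ⟨a, b, c, ⟨wk_of ?_, cz_of 967812279691448225500382947153381408 963640518972357266310373335248618528 ?_⟩,
      ⟨wk_of ?_, cz_of 590119307679081174788173599255826530 982224259478962699667529342907889696 ?_⟩,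
      ⟨wk_of ?_, cz_of 588828300710765807296270614185550946 979202557212185692351740521724578848 ?_⟩,
      cl_of 981772698709494542363491066837209125 ?_, cl_of 140946604219622950251009450593453134 ?_,
      cl_of 12277846149402286645899591187446839 ?_, cl_of 168252174836074937326176828344354024 ?_,
      cl_of 18925196030434885103118950874820663 ?_, ?_⟩ <;>
    · simp only [Dg, mems, cd_eq, cd_mul, cd_one, cds, h1, h2, h3]
      decide +kernel

/-- a Sylow `2`-subgroup -/
def T : Subgroup M24 := 𝐳[z] ⊓ (normalizer (V2 : Set M24) ⊓ normalizer (V3 : Set M24))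

/-- the test for `T` -/
noncomputable def inT (c : ℕ) : Bool := and' (comC c z1) (and' (nrmC lV2 c) (nrmC lV3 c))

theorem mem_T {g : M24} : g ∈ T ↔ inT (cd g) = true := by
  rw [T, mem_inf, mem_inf, inT, and'_eq_true, and'_eq_true, ← cds.1, comC_iff, mem_z]
  exact and_congr Iff.rfl (and_congr nrm_iff nrm_iff)

theorem card_T : Nat.card T = 1024 := by
  rw [card_subgroup_eq_ncard (P := fun g => g ∈ 𝐳[z] ∧
    and' (nrmC lV2 (cd g)) (nrmC lV3 (cd g)) = true) fun g => by
      rw [T, mem_inf, mem_inf, and'_eq_true]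
      exact and_congr Iff.rfl (and_congr nrm_iff nrm_iff),
    chainH.ncard_eq (fun g => and' (nrmC lV2 (cd g)) (nrmC lV3 (cd g)) = true) (fun _ _ _ => true)
      (fun c => and' (nrmC lV2 c) (nrmC lV3 c))
      (fun _ _ => Iff.rfl) fun _ _ _ _ _ _ _ _ => rfl]
  decide +kernel

theorem le_T {l : List ℕ} {h : subOK l = true} (hl : allL l inT = true) : lsub l h ≤ T :=
  fun _ ha => mem_T.2 (lsub_all _ hl ha)

theorem not_comm : ∃ a : M24, a * z ≠ z * a := by
  obtain ⟨ρ, h, -⟩ := exists_rho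
  exact ⟨ρ, fun e => nes.2.2.1 ((conj_eq_iff.2 e).symm.trans h)⟩

theorem dat : Dat ⊤ T W z y 1 := by
  have hE : E ≤ T := le_T (by decide +kernel)
  have hE2 : E2 ≤ T := le_T (by decide +kernel)
  have hp : IsPGroup 2 T := IsPGroup.of_card (n := 10) card_T
  have := S0365.result
  refine ⟨?_, ?_, hE memE.1, z_ne, fun u hu => mem_z.1 (mem_inf.1 hu).1, fun x _ h =>
    one_or_z (E_self x fun a ha => h a (hE ha)) (h _ (hE2 memE2.2.1)) (h _ (hE2 memE2.2.2.1))
      (h _ (hE2 memE2.2.2.2)), le_T (by decide +kernel), fun x hx => W_norm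
    (mem_z.1 (mem_inf.1 hx).1) (mem_inf.1 (mem_inf.1 hx).2).1 (mem_inf.1 (mem_inf.1 hx).2).2,
    fun _ ha _ hb => W_com ha hb, fun x _ => W_self x, ?_, W_le fun c hc => ?_, yW,
    fun x _ h2 h1 => (cls x h2 h1).imp fun _ h => ⟨trivial, h⟩, ?_, ?_⟩
  · refine (IsSimpleGroup.eq_bot_or_eq_top_of_normal _ inferInstance).resolve_left fun e => ?_
    obtain ⟨a, ha⟩ := not_comm
    exact ha (commutatorElement_eq_one_iff_mul_comm.1
      (mem_bot.1 (e ▸ commutator_mem_commutator trivial trivial)))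
  · refine isSyl_of_not_dvd_relIndex hp le_top ?_
    have := T.card_mul_index
    rw [card_T, card_M24] at this
    rw [relIndex_top_right]
    omega
  · have : 64 ≤ Nat.card W := card_ge_of_slp (l := wg) (fun c hc => by
      obtain ⟨k, rfl⟩ := exists_cd ((allL_iff _ _).1 (show allL wg okM = true by decide +kernel) c hc)
      exact ⟨k, wg_mem hc, rfl⟩) [5122, 1, 6, 6, 5119, 1, 11273, 7, 8, 9227, 11263, 1, 3, 7, 8200, 20, 4, 5] 2176 2 [[23, 22, 21, 20, 19, 18], [12, 9, 6, 23], [4, 0]] (by decide +kernel)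
    rw [card_T]
    nlinarith
  · obtain ⟨k, rfl⟩ := exists_cd ((allL_iff _ _).1 (show allL wg okM = true by decide +kernel) c hc)
    obtain ⟨b, hb⟩ := tab_any (tab := [984818244535754528103549039458486304, 68244382436930314587144492996001873,
    416077789421282102826622284742702215, 630134736645537544412388627027703402,
    445530282024018524208315932556448835, 873796164500613591725199533906020430]) (by decide +kernel)
      ((allL_iff wg fun c => anyL _ fun b => cjC b z1 c).1 (by decide +kernel) _ hc)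
    exact ⟨k, subset_closure ⟨wg_mem hc, b, trivial, (cjC_iff.1 (cds.1 ▸ hb)).symm⟩, rfl⟩
  · have : 512 ≤ Nat.card ↥(T ⊓ 𝐳[y]) := card_ge_of_slp (l := [303208769355256891526824637280928015, 817231181623869537702853221490860426,
    734156687198945923028975927820475459])
      (fun c hc => by
        have := (allL_iff _ fun c => and' (okM c) (and' (inT c) (comC c cy))).1
          (by decide +kernel) _ hc
        simp only [and'_eq_true] at this
        obtain ⟨k, rfl⟩ := exists_cd this.1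
        exact ⟨k, mem_inf.2 ⟨mem_T.2 this.2.1,
          mem_z.2 (comC_iff.1 (cds.2.2.2.2.2.2.2.1 ▸ this.2.2))⟩, rfl⟩)
      [1024, 3, 4, 3075, 6, 1023, 3, 7177, 10, 9, 10250, 1023, 2, 13326, 17407, 1, 16402, 18, 19474,
    1023, 2, 5125, 9217, 7, 3080, 1023, 2] 4160 3 [[29, 28, 27], [20, 14, 11, 6], [5, 20, 0]] (by decide +kernel)
    rw [card_T]
    omega
  · obtain ⟨u, h⟩ := exists_cd (c := 356227573588898270732294311188742372) (by decide +kernel)
    refine ⟨u, mem_T.2 (by rw [h]; decide +kernel), ?_⟩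
    rw [show u ^ 2 ^ (1 + 1) = u * u * (u * u) by rw [← sq, ← sq, ← pow_mul]; rfl]
    simp only [ne_eq, cd_eq, cd_mul, cd_one, h]
    decide +kernel

end Cfsg.Agent.Wr.MC
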